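import Groth.Agent.Cube7.Seesaw
import Groth.Agent.Cube7.PicCalc

/-!
Modules which, locally on the base, have a frame on the whole preimage.
-/

set_option autoImplicit false
set_option maxSynthPendingDepth 6
set_option linter.style.haveILetI false
set_option backward.isDefEq.respectTransparency.types false

universe u

noncomputable section

open CategoryTheory CategoryTheory.Limits AlgebraicGeometry TopologicalSpace Opposite

namespace Groth.Agent.PicSee25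

open Var76.LineBundle

variable {Y T : Scheme.{u}}

/-- Locally on the base, a frame over the preimage. -/
def Tr (q : Y ⟶ T) (G : Y.Modules) : Prop :=
  ∀ t : T, ∃ V : T.Opens, t ∈ V ∧ ∃ s : Γ(G, q ⁻¹ᵁ V), IsFrame G (q ⁻¹ᵁ V) s

theorem Tr.of_iso {q : Y ⟶ T} {G G' : Y.Modules} (e : G ≅ G') (h : Tr q G) : Tr q G' := fun t => by
  obtain ⟨V, hV, s, hs⟩ := h t
  exact ⟨V, hV, _, (Amp73.isFrame_app_iff e.hom s).2 hs⟩

theorem Tr.pull {Y' T' : Scheme.{u}} {q : Y ⟶ T} {q' : Y' ⟶ T'} {k : Y' ⟶ Y} {g : T' ⟶ T}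
    (w : k ≫ q = q' ≫ g) {G : Y.Modules} {G' : Y'.Modules}
    (e : (Scheme.Modules.pullback k).obj G ≅ G') (h : Tr q G) : Tr q' G' := fun t => by
  obtain ⟨V, hV, s, hs⟩ := h (g t)
  refine ⟨g ⁻¹ᵁ V, hV, ?_⟩
  have hle : q' ⁻¹ᵁ (g ⁻¹ᵁ V) ≤ k ⁻¹ᵁ (q ⁻¹ᵁ V) := by
    rw [← Scheme.Hom.comp_preimage, ← Scheme.Hom.comp_preimage, w]
  exact ⟨_, ((Amp73.isFrame_app_iff e.hom _).2 (Props58.PullTensor.isFrame_pullS k hs)).res hle⟩

theorem Tr.of_pullback {q : Y ⟶ T} {G : Y.Modules} {M : T.Modules} (hM : PicF.IsInvertible M)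
    (e : G ≅ (Scheme.Modules.pullback q).obj M) : Tr q G := fun t => by
  obtain ⟨V, hV, s, hs⟩ := Mero90.exists_frame' hM t
  exact ⟨V, hV, _, (Amp73.isFrame_app_iff e.inv _).2 (Props58.PullTensor.isFrame_pullS q hs)⟩

theorem Tr.exists_iso {q : Y ⟶ T} (hq : ∀ V : T.Opens, Function.Bijective (q.app V)) {G : Y.Modules}
    (h : Tr q G) : ∃ M : T.Modules, PicF.IsInvertible M ∧ Nonempty (G ≅ (Scheme.Modules.pullback q).obj M) := by
  obtain ⟨h1, h2⟩ := Cube7.invertible_and_counit_of_frames q hq h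
  exact ⟨_, h1, ⟨(asIso ((Scheme.Modules.pullbackPushforwardAdjunction q).counit.app G)).symm⟩⟩

/-- A frame passes to an inverse. -/
theorem Tr.inverse {q : Y ⟶ T} (hq : ∀ V : T.Opens, Function.Bijective (q.app V)) {G H : Y.Modules}
    (hG : PicF.IsInvertible G) (hH : PicF.IsInvertible H) (e : CohB1.tensorMod G H ≅ Coh.structureModule Y)
    (h : Tr q G) : Tr q H := by
  obtain ⟨M, hM, ⟨i⟩⟩ := h.exists_iso hq
  have hc : PicGrp.cls G hG = Cube7.PicCalc.pb q (PicGrp.cls M hM) := by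
    rw [Cube7.PicCalc.pb_cls, PicGrp.cls_eq_cls_iff]; exact ⟨i⟩
  have hGH : PicGrp.cls G hG * PicGrp.cls H hH = 1 := (PicGrp.cls_mul_cls_eq_one_iff hG hH).2 ⟨e⟩
  obtain ⟨M', hM', hM'c⟩ := PicGrp.exists_eq_cls (PicGrp.cls M hM)⁻¹
  have hH' : PicGrp.cls H hH = Cube7.PicCalc.pb q (PicGrp.cls M' hM') := by
    rw [← hM'c, map_inv, ← hc]
    exact (inv_eq_of_mul_eq_one_right hGH).symm
  rw [Cube7.PicCalc.pb_cls, PicGrp.cls_eq_cls_iff] at hH'
  obtain ⟨j⟩ := hH'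
  exact Tr.of_pullback hM' j

end Groth.Agent.PicSee25
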