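import Groth.Agent.PicSee25.Ideal
import Groth.Agent.FBase64.Geometric

/-!
The closed subscheme over which an invertible module is trivial relative to the base.
-/

set_option autoImplicit false
set_option maxSynthPendingDepth 6
set_option synthInstance.maxHeartbeats 200000
set_option linter.style.haveILetI false
set_option backward.isDefEq.respectTransparency.types false

universe u

noncomputable section

open CategoryTheory CategoryTheory.Limits AlgebraicGeometry TopologicalSpace Opposite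

namespace Groth.Agent.PicSee25

open Var76.LineBundle FF71

variable {X S : Scheme.{u}} (f : X ⟶ S) (L : X.Modules)

/-- Locally on `T` a frame of the pullback of `L` to `X ×_S T`. -/
def TrOver {T : Scheme.{u}} (m : T ⟶ S) : Prop :=
  Tr (pullback.snd f m) ((Scheme.Modules.pullback (pullback.fst f m)).obj L)

variable {f L}

theorem TrOver.comp {T' T : Scheme.{u}} {m : T ⟶ S} (h : TrOver f L m) (g : T' ⟶ T) : TrOver f L (g ≫ m) := by
  let k : pullback f (g ≫ m) ⟶ pullback f m :=
    pullback.lift (pullback.fst _ _) (pullback.snd _ _ ≫ g) (by rw [pullback.condition, Category.assoc])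
  have w : k ≫ pullback.snd f m = pullback.snd f (g ≫ m) ≫ g := pullback.lift_snd _ _ _
  have w' : k ≫ pullback.fst f m = pullback.fst f (g ≫ m) := pullback.lift_fst _ _ _
  exact Tr.pull w ((Scheme.Modules.pullbackComp k (pullback.fst f m)).app L ≪≫
    (Scheme.Modules.pullbackCongr w').app L) h

theorem TrOver.of_local {T : Scheme.{u}} {m : T ⟶ S}
    (h : ∀ t : T, ∃ V : T.Opens, t ∈ V ∧ TrOver f L (V.ι ≫ m)) : TrOver f L m := by
  intro t
  obtain ⟨V, htV, hV⟩ := h t
  let q := pullback.snd f m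
  let G := (Scheme.Modules.pullback (pullback.fst f m)).obj L
  let j := (q ⁻¹ᵁ V).ι
  let σ : (↑(q ⁻¹ᵁ V) : Scheme.{u}) ⟶ pullback f (V.ι ≫ m) :=
    pullback.lift (j ≫ pullback.fst f m) (q ∣_ V) (by
      rw [Category.assoc, pullback.condition, ← Category.assoc, ← Category.assoc, morphismRestrict_ι])
  have w : σ ≫ pullback.snd f (V.ι ≫ m) = (q ∣_ V) ≫ 𝟙 _ := by
    rw [Category.comp_id]; exact pullback.lift_snd _ _ _
  have w' : σ ≫ pullback.fst f (V.ι ≫ m) = j ≫ pullback.fst f m := pullback.lift_fst _ _ _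
  have h1 : Tr (q ∣_ V) ((Scheme.Modules.pullback j).obj G) :=
    Tr.pull w ((Scheme.Modules.pullbackComp σ _).app L ≪≫ (Scheme.Modules.pullbackCongr w').app L ≪≫
      ((Scheme.Modules.pullbackComp j (pullback.fst f m)).app L).symm) hV
  obtain ⟨V₀, ht₀, s, hs⟩ := h1 ⟨t, htV⟩
  refine ⟨V.ι ''ᵁ V₀, ⟨_, ht₀, rfl⟩, ?_⟩
  have h2 := (Props58.PullTensor.isFrame_restrict_iff j G _ _).1
    ((Amp73.isFrame_app_iff ((Scheme.Modules.restrictFunctorIsoPullback j).inv.app G) _).2 hs)
  exact ⟨_, h2.res (image_morphismRestrict_preimage q V V₀).ge⟩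

variable [IsProper f] [Flat f] [IsLocallyNoetherian S]

theorem exists_ideal_affine (h0 : AbSch7.H0Fib f)
    (hint : ∀ (K : Type u) [Field K] (x : Spec (CommRingCat.of K) ⟶ S), IsIntegral (pullback f x))
    (hL : PicF.IsInvertible L) (U : S.affineOpens) :
    ∃ J : Ideal Γ(S, U.1), ∀ (B : Type u) [CommRing B] [IsNoetherianRing B] (φ : Γ(S, U.1) →+* B),
      TrOver f L (Spec.map (CommRingCat.ofHom φ) ≫ U.2.fromSpec) ↔ J ≤ RingHom.ker φ := by
  haveI : IsNoetherianRing Γ(S, U.1) := IsLocallyNoetherian.component_noetherian U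
  let A : Type u := Γ(S, U.1)
  let g := U.2.fromSpec
  let X' := pullback f g
  letI : X'.Over (Spec (CommRingCat.of A)) := ⟨pullback.snd f g⟩
  haveI : IsProper (X' ↘ Spec (CommRingCat.of A)) := inferInstanceAs (IsProper (pullback.snd f g))
  haveI : Flat (X' ↘ Spec (CommRingCat.of A)) := inferInstanceAs (Flat (pullback.snd f g))
  let j : X' ⟶ X := pullback.fst f g
  have H : IsPullback j (X' ↘ Spec (CommRingCat.of A)) f g := IsPullback.of_hasPullback f g
  obtain ⟨J, hJ⟩ := exists_ideal (A := A) (X := X') (h0.of_isPullback H) (fun K _ _ => by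
    have := hint K (Spec.map (CommRingCat.ofHom (algebraMap A K)) ≫ g)
    exact IsIntegral.of_isIso (((IsPullback.of_hasPullback (X' ↘ Spec (CommRingCat.of A))
      (Spec.map (CommRingCat.ofHom (algebraMap A K)))).paste_horiz H).isoPullback.inv))
    _ (PicLoc.isInvertible_pullback j hL)
  refine ⟨J, fun B _ _ φ => ?_⟩
  letI : Algebra A B := φ.toAlgebra
  rw [show RingHom.ker φ = RingHom.ker (algebraMap A B) from rfl, ← hJ B]
  let m := Spec.map (CommRingCat.ofHom φ) ≫ g
  have h1 : (bcπ A X' B ≫ j) ≫ f = (bc A X' B ↘ Spec (CommRingCat.of B)) ≫ m :=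
    ((IsPullback.of_hasPullback (X' ↘ Spec (CommRingCat.of A)) (Spec.map (CommRingCat.ofHom φ))).paste_horiz H).w
  let k : bc A X' B ⟶ pullback f m := pullback.lift _ _ h1
  have hPB : IsPullback (bcπ A X' B ≫ j) (bc A X' B ↘ Spec (CommRingCat.of B)) f m :=
    (IsPullback.of_hasPullback (X' ↘ Spec (CommRingCat.of A)) (Spec.map (CommRingCat.ofHom φ))).paste_horiz H
  constructor
  · intro h
    have w : k ≫ pullback.snd f m = (bc A X' B ↘ Spec (CommRingCat.of B)) ≫ 𝟙 _ := by
      rw [Category.comp_id]; exact pullback.lift_snd _ _ _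
    have w' : k ≫ pullback.fst f m = bcπ A X' B ≫ j := pullback.lift_fst _ _ _
    exact Tr.pull w ((Scheme.Modules.pullbackComp k _).app L ≪≫ (Scheme.Modules.pullbackCongr w').app L ≪≫
      ((Scheme.Modules.pullbackComp (bcπ A X' B) j).app L).symm) h
  · intro h
    let k' : pullback f m ⟶ bc A X' B := hPB.lift (pullback.fst f m) (pullback.snd f m) pullback.condition
    have w : k' ≫ (bc A X' B ↘ Spec (CommRingCat.of B)) = pullback.snd f m ≫ 𝟙 _ := by
      rw [Category.comp_id]; exact hPB.lift_snd _ _ _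
    have w' : k' ≫ bcπ A X' B ≫ j = pullback.fst f m := hPB.lift_fst _ _ _
    exact Tr.pull w ((Scheme.Modules.pullback k').mapIso ((Scheme.Modules.pullbackComp (bcπ A X' B) j).app L) ≪≫
      (Scheme.Modules.pullbackComp k' _).app L ≪≫ (Scheme.Modules.pullbackCongr w').app L) h

/-- **The seesaw subscheme**, in terms of frames. -/
theorem exists_closed_trOver (h0 : AbSch7.H0Fib f)
    (hint : ∀ (K : Type u) [Field K] (x : Spec (CommRingCat.of K) ⟶ S), IsIntegral (pullback f x))
    (hL : PicF.IsInvertible L) :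
    ∃ (Z : Scheme.{u}) (ι : Z ⟶ S), IsClosedImmersion ι ∧
      ∀ (T : Scheme.{u}) (u : T ⟶ S), IsLocallyNoetherian T →
        ((∃ u' : T ⟶ Z, u' ≫ ι = u) ↔ TrOver f L u) := by
  choose J hJ using exists_ideal_affine (f := f) (L := L) h0 hint hL
  have hcompat : ∀ (U : S.affineOpens) (b : Γ(S, U.1)),
      (J U).map (S.presheaf.map (homOfLE <| S.basicOpen_le b).op).hom = J (S.affineBasicOpen b) := by
    intro U b
    let U' := S.affineBasicOpen b
    let r : Γ(S, U.1) →+* Γ(S, U'.1) := (S.presheaf.map (homOfLE <| S.basicOpen_le b).op).hom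
    have hr : Spec.map (CommRingCat.ofHom r) ≫ U.2.fromSpec = U'.2.fromSpec :=
      U.2.map_fromSpec U'.2 (homOfLE <| S.basicOpen_le b).op
    haveI : IsNoetherianRing Γ(S, U'.1) := IsLocallyNoetherian.component_noetherian U'
    have key : ∀ K : Ideal Γ(S, U'.1), J U' ≤ K ↔ (J U).map r ≤ K := by
      intro K
      rw [Ideal.map_le_iff_le_comap, show K.comap r = RingHom.ker ((Ideal.Quotient.mk K).comp r) by
        rw [← RingHom.comap_ker, Ideal.mk_ker], ← hJ U _ ((Ideal.Quotient.mk K).comp r),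
        CommRingCat.ofHom_comp, Spec.map_comp, Category.assoc, hr, hJ U' _ (Ideal.Quotient.mk K), Ideal.mk_ker]
    exact le_antisymm ((key _).1 le_rfl) ((key _).2 le_rfl)
  let I : S.IdealSheafData := { ideal := J, map_ideal_basicOpen := hcompat }
  refine ⟨I.subscheme, I.subschemeι, inferInstance, fun T u _ => ⟨?_, fun h => ?_⟩⟩
  · rintro ⟨u', rfl⟩
    refine TrOver.comp (TrOver.of_local fun z => ?_) u'
    obtain ⟨_, ⟨W, hW, rfl⟩, hzW, -⟩ :=
      S.isBasis_affineOpens.exists_subset_of_mem_open (Set.mem_univ (I.subschemeι z)) isOpen_univ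
    haveI : IsLocallyNoetherian I.subscheme := LocallyOfFiniteType.isLocallyNoetherian I.subschemeι
    have hV : IsAffineOpen (I.subschemeι ⁻¹ᵁ W) := hW.preimage I.subschemeι
    haveI : IsNoetherianRing Γ(I.subscheme, I.subschemeι ⁻¹ᵁ W) :=
      IsLocallyNoetherian.component_noetherian ⟨_, hV⟩
    refine ⟨I.subschemeι ⁻¹ᵁ W, hzW, ?_⟩
    rw [← hV.isoSpec_hom_fromSpec, Category.assoc]
    refine TrOver.comp ?_ _
    rw [← hW.SpecMap_appLE_fromSpec I.subschemeι hV le_rfl]
    refine (hJ ⟨W, hW⟩ _ (I.subschemeι.appLE W (I.subschemeι ⁻¹ᵁ W) le_rfl).hom).2 ?_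
    rw [← Scheme.Hom.app_eq_appLE]
    exact (I.ker_subschemeι_app ⟨W, hW⟩).ge
  · have hle : I.subschemeι.ker ≤ u.ker := by
      rw [I.ker_subschemeι]
      refine (Scheme.IdealSheafData.le_ofIdeals_iff).2 fun U a ha => ?_
      refine TopCat.Sheaf.eq_of_locally_eq' T.sheaf (fun V : {V : T.affineOpens // V.1 ≤ u ⁻¹ᵁ U.1} => V.1.1)
        _ (fun V => homOfLE V.2) (fun x hx => ?_) _ _ fun V => ?_
      · obtain ⟨_, ⟨V, hV, rfl⟩, hxV, hVU⟩ := T.isBasis_affineOpens.exists_subset_of_mem_open hx (u ⁻¹ᵁ U.1).isOpen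
        exact Opens.mem_iSup.2 ⟨⟨⟨V, hV⟩, hVU⟩, hxV⟩
      · refine Eq.trans ?_ (map_zero (T.presheaf.map (homOfLE V.2).op).hom).symm
        haveI : IsNoetherianRing Γ(T, V.1.1) := IsLocallyNoetherian.component_noetherian V.1
        have h1 : TrOver f L (Spec.map (CommRingCat.ofHom (u.appLE U.1 V.1.1 V.2).hom) ≫ U.2.fromSpec) := by
          rw [CommRingCat.ofHom_hom, U.2.SpecMap_appLE_fromSpec u V.1.2 V.2]
          exact h.comp _
        exact (hJ U _ _).1 h1 ha
    exact ⟨IsClosedImmersion.lift I.subschemeι u hle, IsClosedImmersion.lift_fac _ _ _⟩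

end Groth.Agent.PicSee25
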