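import Groth.Agent.PicSee25.Frames
import Groth.Agent.Cube7.FibreClosed

/-!
The ideal of the locus where an invertible module is trivial relative to an affine base.
-/

set_option autoImplicit false
set_option maxSynthPendingDepth 6
set_option synthInstance.maxHeartbeats 200000
set_option linter.style.haveILetI false
set_option backward.isDefEq.respectTransparency.types false

universe u

noncomputable section

open CategoryTheory CategoryTheory.Limits AlgebraicGeometry TopologicalSpace Opposite TensorProduct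

namespace Groth.Agent.PicSee25

open QC70 FF71 Mum71 Cube7 Var76.LineBundle

variable {A : Type u} [CommRing A] [IsNoetherianRing A] {X : Scheme.{u}} [X.Over (Spec (CommRingCat.of A))]
  [IsProper (X ↘ Spec (CommRingCat.of A))] [Flat (X ↘ Spec (CommRingCat.of A))]

theorem rA_top_injective {B : Type u} [CommRing B] {Z : Scheme.{u}} [Z.Over (Spec (CommRingCat.of B))]
    (h : Function.Bijective (Z ↘ Spec (CommRingCat.of B)).appTop) :
    Function.Injective (rA B Z ⊤) := by
  intro a b hab
  have h1 : ∀ x, rA B Z ⊤ x =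
      (Z ↘ Spec (CommRingCat.of B)).appTop ((Scheme.ΓSpecIso (CommRingCat.of B)).inv x) := fun x =>
    ConcreteCategory.congr_hom (Z.presheaf.map_id (op ⊤))
      ((Z ↘ Spec (CommRingCat.of B)).appTop ((Scheme.ΓSpecIso (CommRingCat.of B)).inv x))
  rw [h1, h1] at hab
  exact (ConcreteCategory.bijective_of_isIso (Scheme.ΓSpecIso (CommRingCat.of B)).inv).1 (h.1 hab)

section

variable (L : X.Modules) (hL : PicF.IsInvertible L) {ι : Type u} [Finite ι] {U : ι → X.Opens}
  (hU : ⨆ i, U i = ⊤) (hU₁ : ∀ i, IsAffineOpen (U i)) (hU₂ : ∀ i j, IsAffineOpen (U i ⊓ U j))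
  (Q : ModuleCat.{u} A) (e : ∀ M : ModuleCat.{u} A, (Q →ₗ[A] M) ≃ Fam A L U M)
  (he : ∀ (M M' : ModuleCat.{u} A) (g : M ⟶ M') (φ : Q →ₗ[A] M),
        e M' (g.hom ∘ₗ φ) = famMap L U g.hom (e M φ))

include he in
omit [IsNoetherianRing A] [Finite ι] in
theorem e_nat {M M' : Type u} [AddCommGroup M] [Module A M] [AddCommGroup M'] [Module A M']
    (g : M →ₗ[A] M') (φ : Q →ₗ[A] M) :
    e (ModuleCat.of A M') (g ∘ₗ φ) = famMap L U g (e (ModuleCat.of A M) φ) :=
  he (ModuleCat.of A _) (ModuleCat.of A _) (ModuleCat.ofHom g) φ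

include he in
omit [IsNoetherianRing A] [Finite ι] in
theorem e_zero (M : Type u) [AddCommGroup M] [Module A M] : e (ModuleCat.of A M) 0 = 0 := by
  have := e_nat L Q e he (0 : M →ₗ[A] M) (0 : Q →ₗ[A] M)
  rw [LinearMap.zero_comp] at this
  rw [this]
  exact Subtype.ext (funext fun i => by rw [famMap_val, LinearMap.lTensor_zero]; rfl)

include hU hU₁ hU₂ he hL in
omit [IsNoetherianRing A] [Finite ι] in
/-- An element killing the corepresenting module dies in every algebra over which there is a frame. -/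
theorem algebraMap_eq_zero_of_frame (B : Type u) [CommRing B] [Algebra A B]
    (h0 : Function.Bijective (bc A X B ↘ Spec (CommRingCat.of B)).appTop)
    (s : Γ(bcMod (A := A) L B, ⊤)) (hs : IsFrame (bcMod (A := A) L B) ⊤ s)
    {a : A} (ha : a ∈ Module.annihilator A Q) : algebraMap A B a = 0 := by
  haveI : L.IsQuasicoherent := Mero90.isQCoh_of_isInvertible hL
  let T := bc A X B
  let G := bcMod (A := A) L B
  let S : TopCat.Sheaf AddCommGrpCat.{u} T := ⟨G.presheaf, G.isSheaf⟩
  have hcov : (⊤ : T.Opens) ≤ ⨆ i, bcπ A X B ⁻¹ᵁ U i := by rw [← Scheme.Hom.preimage_iSup, hU]; rfl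
  obtain ⟨E, hE, hEres⟩ := exists_famEquiv (A := A) L B hU hU₁ hU₂
  obtain ⟨z, hz⟩ := hE.2 s
  let φ : Q →ₗ[A] B := (e (ModuleCat.of A B)).symm z
  have hφ : e (ModuleCat.of A B) φ = z := (e (ModuleCat.of A B)).apply_symm_apply z
  have hEmul : ∀ b : B, E (famMap L U (LinearMap.mulLeft A b) z) = rA B T ⊤ b • E z := by
    intro b
    refine TopCat.Sheaf.eq_of_locally_eq' S (fun i => bcπ A X B ⁻¹ᵁ U i) ⊤ (fun _ => homOfLE le_top) hcov _ _
      fun i => ?_
    show QC70.res G le_top (E _) = QC70.res G le_top (rA B T ⊤ b • E z)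
    rw [QC70.res_smul, resO_rA, hEres, hEres]
    exact bcMap_mulLeft L (hU₁ i) b (z.1 i)
  have h1 : LinearMap.mulLeft A (algebraMap A B a) ∘ₗ φ = LinearMap.mulLeft A (0 : B) ∘ₗ φ := by
    ext x
    show algebraMap A B a * φ x = 0 * φ x
    rw [zero_mul, ← Algebra.smul_def, ← map_smul, Module.mem_annihilator.1 ha x, map_zero]
  have h2 : rA B T ⊤ (algebraMap A B a) • s = rA B T ⊤ (0 : B) • s := by
    rw [← hz, ← hEmul, ← hEmul, ← hφ, ← e_nat L Q e he, ← e_nat L Q e he, h1]
  refine rA_top_injective h0 ?_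
  rw [(rA B T ⊤).map_zero]
  rw [(rA B T ⊤).map_zero] at h2
  refine (hs ⊤ le_rfl).1 ?_
  dsimp only
  rw [Amp73.res_self]
  exact h2

include he hU hU₁ hU₂ hL in
omit [IsNoetherianRing A] [Finite ι] in
/-- A prime containing the annihilator has a nonzero section on its fibre. -/
theorem exists_section_ne_zero [Module.Finite A Q] (y : Ideal A) [y.IsPrime]
    (hy : Module.annihilator A Q ≤ y) :
    ∃ s : Γ(bcMod (A := A) L y.ResidueField, ⊤), s ≠ 0 := by
  haveI : L.IsQuasicoherent := Mero90.isQCoh_of_isInvertible hL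
  have hsupp : (⟨y, inferInstance⟩ : PrimeSpectrum A) ∈ Module.support A Q := by
    rw [Module.support_eq_zeroLocus]
    exact hy
  haveI : Nontrivial (y.ResidueField ⊗[A] Q) :=
    (Module.mem_support_iff_nontrivial_residueField_tensorProduct (M := Q) ⟨y, inferInstance⟩).1 hsupp
  obtain ⟨w, hw⟩ := exists_ne (0 : y.ResidueField ⊗[A] Q)
  haveI : Module.Free y.ResidueField (y.ResidueField ⊗[A] Q) := Module.Free.of_divisionRing _ _
  haveI : Module.Projective y.ResidueField (y.ResidueField ⊗[A] Q) := Module.Projective.of_free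
  obtain ⟨μ, hμ⟩ : ∃ μ : (y.ResidueField ⊗[A] Q) →ₗ[y.ResidueField] y.ResidueField, μ w ≠ 0 := by
    by_contra h
    push Not at h
    exact hw ((Module.forall_dual_apply_eq_zero_iff y.ResidueField w).1 h)
  let φ : Q →ₗ[A] y.ResidueField := (μ.restrictScalars A) ∘ₗ TensorProduct.mk A y.ResidueField Q 1
  have hφ : φ ≠ 0 := by
    intro h
    refine hμ ?_
    have : μ = 0 := by
      refine TensorProduct.AlgebraTensorModule.ext fun r n => ?_
      rw [← mul_one r, ← smul_eq_mul, ← smul_tmul', map_smul, LinearMap.zero_apply,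
        show μ ((1 : y.ResidueField) ⊗ₜ[A] n) = 0 from LinearMap.congr_fun h n, smul_zero]
    rw [this, LinearMap.zero_apply]
  obtain ⟨E, hE, hEres⟩ := exists_famEquiv (A := A) L y.ResidueField hU hU₁ hU₂
  refine ⟨E (e (ModuleCat.of A y.ResidueField) φ), fun h => hφ ((e (ModuleCat.of A y.ResidueField)).injective ?_)⟩
  rw [e_zero L Q e he]
  refine Subtype.ext (funext fun i => (bcMap_bijective L y.ResidueField (hU₁ i) rfl).1 ?_)
  rw [← hEres, h]
  show _ = bcMap L y.ResidueField (hU₁ i) rfl 0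
  rw [map_zero]
  exact map_zero _

include hU hU₁ hU₂ he hL in
omit [IsNoetherianRing A] [Finite ι] in
/-- Where the fibre is trivial and the annihilator vanishes, there is a generating section near the fibre. -/
theorem exists_frame_nhd [Module.Finite A Q] (h0 : AbSch7.H0Fib (X ↘ Spec (CommRingCat.of A)))
    (B : Type u) [CommRing B] [Algebra A B] (hJ : ∀ a ∈ Module.annihilator A Q, algebraMap A B a = 0)
    (P : PrimeSpectrum B)
    (htriv : Nonempty (bcMod (A := A) L (P.asIdeal.comap (algebraMap A B)).ResidueField ≅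
      Coh.structureModule (bc A X (P.asIdeal.comap (algebraMap A B)).ResidueField))) :
    ∃ V : (Spec (CommRingCat.of B)).Opens, P ∈ V ∧
      ∃ s : Γ(bcMod (A := A) L B, (bc A X B ↘ Spec (CommRingCat.of B)) ⁻¹ᵁ V),
        IsFrame (bcMod (A := A) L B) ((bc A X B ↘ Spec (CommRingCat.of B)) ⁻¹ᵁ V) s := by
  haveI : L.IsQuasicoherent := Mero90.isQCoh_of_isInvertible hL
  let y := P.asIdeal.comap (algebraMap A B)
  obtain ⟨i₀⟩ := htriv
  have hK0 : Function.Bijective (bc A X y.ResidueField ↘ Spec (CommRingCat.of y.ResidueField)).appTop :=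
    h0 y.ResidueField (Spec.map (CommRingCat.ofHom (algebraMap A y.ResidueField)))
  haveI hne : Nonempty (bc A X y.ResidueField) := by
    by_contra hne
    rw [not_nonempty_iff] at hne
    have : Subsingleton Γ(bc A X y.ResidueField, ⊤) := inferInstance
    have := hK0.1.subsingleton
    exact false_of_nontrivial_of_subsingleton Γ(Spec (CommRingCat.of y.ResidueField), ⊤)
  obtain ⟨xb, hxb0, hall, -⟩ := exists_fibre_gen L hU hU₁ hU₂ y.ResidueField hL hK0 i₀
  let φ₀ : Q →ₗ[A] y.ResidueField := (e (ModuleCat.of A y.ResidueField)).symm xb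
  have hφ₀ : e (ModuleCat.of A y.ResidueField) φ₀ = xb :=
    (e (ModuleCat.of A y.ResidueField)).apply_symm_apply xb
  have hne0 : φ₀ ≠ 0 := fun h => hxb0 hne (by rw [← hφ₀, h]; exact e_zero L Q e he _)
  have h1 : ∀ φ : Q →ₗ[A] y.ResidueField, ∃ c : y.ResidueField, φ = c • φ₀ := fun φ => by
    obtain ⟨c, hc⟩ := hall (e (ModuleCat.of A y.ResidueField) φ)
    refine ⟨c, (e (ModuleCat.of A y.ResidueField)).injective ?_⟩
    rw [hc, show c • φ₀ = LinearMap.mulLeft A c ∘ₗ φ₀ from LinearMap.ext fun _ => rfl,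
      e_nat L Q e he, hφ₀]
  obtain ⟨q₀, hq₀⟩ : ∃ q, φ₀ q ≠ 0 := by
    by_contra h
    push Not at h
    exact hne0 (LinearMap.ext h)
  have hker : RingHom.ker (algebraMap A y.ResidueField) = y := by
    ext a
    rw [RingHom.mem_ker, Ideal.algebraMap_residueField_eq_zero]
  have hg := exists_gen_at y y.ResidueField hker φ₀ q₀ hq₀ h1
  -- a common denominator
  obtain ⟨G, hG⟩ := (Module.Finite.fg_top : (⊤ : Submodule A Q).FG)
  choose v hv bb hbb using hg
  let u : A := ∏ x ∈ G, v x
  have hu : u ∉ y := fun h => by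
    obtain ⟨x, -, hx⟩ := (Ideal.IsPrime.prod_mem_iff).1 h
    exact hv x hx
  have hmul : ∀ x : Q, ∃ b : A, u • x = b • q₀ := by
    classical
    have hle : (⊤ : Submodule A Q) ≤ (A ∙ q₀).comap (LinearMap.lsmul A Q u) := by
      rw [← hG, Submodule.span_le]
      intro x hx
      refine Submodule.mem_span_singleton.2 ⟨(∏ z ∈ G.erase x, v z) * bb x, ?_⟩
      rw [mul_smul, ← hbb x, smul_smul, mul_comm, Finset.mul_prod_erase G v (Finset.mem_coe.1 hx)]
      rfl
    intro x
    obtain ⟨b, hb⟩ := Submodule.mem_span_singleton.1 (hle (Submodule.mem_top (x := x)))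
    exact ⟨b, hb.symm⟩
  have hwd : ∀ c : A, c • q₀ = 0 → algebraMap A B (c * u) = 0 := fun c hc => hJ _ <| by
    rw [Module.mem_annihilator]
    intro x
    obtain ⟨b, hb⟩ := hmul x
    rw [mul_smul, hb, smul_comm, hc, smul_zero]
  choose β hβ using hmul
  have hwd' : ∀ c d : A, c • q₀ = d • q₀ → algebraMap A B (c * u) = algebraMap A B (d * u) := fun c d h => by
    rw [← sub_eq_zero, ← map_sub, ← sub_mul]
    exact hwd _ (by rw [sub_smul, h, sub_self])
  let ψ : Q →ₗ[A] B :=
    { toFun := fun x => algebraMap A B (β x * u)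
      map_add' := fun x x' => by
        rw [← map_add, ← add_mul]
        exact hwd' _ _ (by rw [← hβ, add_smul, ← hβ, ← hβ, smul_add])
      map_smul' := fun a x => by
        rw [RingHom.id_apply, Algebra.smul_def, ← map_mul, ← mul_assoc]
        exact hwd' _ _ (by rw [← hβ, mul_smul, ← hβ, smul_comm]) }
  -- the section over `B`
  obtain ⟨E, hE, hEres⟩ := exists_famEquiv (A := A) L B hU hU₁ hU₂
  let z : Fam A L U B := e (ModuleCat.of A B) ψ
  let s : Γ(bcMod (A := A) L B, ⊤) := E z
  let K := P.asIdeal.ResidueField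
  let g : B →ₗ[A] K := (IsScalarTower.toAlgHom A B K).toLinearMap
  have hgψ : g ∘ₗ ψ ≠ 0 := fun h => by
    have h2 : algebraMap B K (algebraMap A B (β q₀ * u)) = 0 := LinearMap.congr_fun h q₀
    rw [show algebraMap A B (β q₀ * u) = algebraMap A B (u * u) from hwd' _ _ (hβ q₀).symm,
      Ideal.algebraMap_residueField_eq_zero] at h2
    rcases (inferInstance : y.IsPrime).mem_or_mem (show u * u ∈ y from h2) with h' | h' <;> exact hu h'
  have hgz : ∃ i, g.lTensor _ (z.1 i) ≠ 0 := by
    by_contra h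
    push Not at h
    refine hgψ ((e (ModuleCat.of A K)).injective ?_)
    rw [e_nat L Q e he, e_zero L Q e he]
    exact Subtype.ext (funext fun i => h i)
  -- the fibre over `P`
  let X' := bc A X B
  let L' := bcMod (A := A) L B
  have hL' : PicF.IsInvertible L' := Amp73.isInvertible_pullback _ hL
  haveI : L'.IsQuasicoherent := Mero90.isQCoh_of_isInvertible hL'
  let U' : ι → X'.Opens := fun i => bcπ A X B ⁻¹ᵁ U i
  have hU' : ⨆ i, U' i = ⊤ := by
    show ⨆ i, bcπ A X B ⁻¹ᵁ U i = ⊤
    rw [← Scheme.Hom.preimage_iSup, hU]; rfl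
  have hU₁' : ∀ i, IsAffineOpen (U' i) := fun i => (hU₁ i).preimage (bcπ A X B)
  have hU₂' : ∀ i j, IsAffineOpen (U' i ⊓ U' j) := fun i j => (hU₂ i j).preimage (bcπ A X B)
  have hX'0 : Function.Bijective (bc B X' K ↘ Spec (CommRingCat.of K)).appTop :=
    (h0.of_isPullback (IsPullback.of_hasPullback (X ↘ Spec (CommRingCat.of A))
      (Spec.map (CommRingCat.ofHom (algebraMap A B))))) K (Spec.map (CommRingCat.ofHom (algebraMap B K)))
  let γ : y.ResidueField →+* K := (Ideal.ResidueField.mapₐ y P.asIdeal (Algebra.ofId A B) rfl).toRingHom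
  have hγ : γ.comp (algebraMap A y.ResidueField) = (algebraMap B K).comp (algebraMap A B) :=
    RingHom.ext fun a => (AlgHom.commutes (Ideal.ResidueField.mapₐ y P.asIdeal (Algebra.ofId A B) rfl) a).trans
      (IsScalarTower.algebraMap_apply A B K a)
  have hcond : (bcπ B X' K ≫ bcπ A X B) ≫ (X ↘ Spec (CommRingCat.of A)) =
      ((bc B X' K ↘ Spec (CommRingCat.of K)) ≫ Spec.map (CommRingCat.ofHom γ)) ≫
        Spec.map (CommRingCat.ofHom (algebraMap A y.ResidueField)) := by
    rw [Category.assoc, pullback.condition, ← Category.assoc,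
      show bcπ B X' K ≫ pullback.snd (X ↘ Spec (CommRingCat.of A)) (Spec.map (CommRingCat.ofHom (algebraMap A B))) =
        (bc B X' K ↘ Spec (CommRingCat.of K)) ≫ Spec.map (CommRingCat.ofHom (algebraMap B K)) from pullback.condition,
      Category.assoc, Category.assoc, ← Spec.map_comp, ← Spec.map_comp]
    congr 2
    exact CommRingCat.hom_ext hγ.symm
  let ρ : bc B X' K ⟶ bc A X y.ResidueField := pullback.lift _ _ hcond
  have hρ : bcπ B X' K ≫ bcπ A X B = ρ ≫ bcπ A X y.ResidueField := (pullback.lift_fst _ _ _).symm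
  let eK : bcMod (A := B) L' K ≅ Coh.structureModule (bc B X' K) :=
    (Scheme.Modules.pullbackComp _ _).app L ≪≫ (Scheme.Modules.pullbackCongr hρ).app L ≪≫
      ((Scheme.Modules.pullbackComp ρ (bcπ A X y.ResidueField)).app L).symm ≪≫
      (Scheme.Modules.pullback ρ).mapIso i₀ ≪≫ PicLoc.pullbackStructureIso ρ
  obtain ⟨xb', -, hall', hgen'⟩ := exists_fibre_gen L' hU' hU₁' hU₂' K hL' hX'0 eK
  let w : ∀ i, Γ(L', U' i) := fun i => QC70.res L' le_top s
  let z' : Fam B L' U' K := ⟨fun i => w i ⊗ₜ[B] (1 : K), fun i j => by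
    show resL (A := B) L' inf_le_left (w i) ⊗ₜ[B] (1 : K) = resL (A := B) L' inf_le_right (w j) ⊗ₜ[B] (1 : K)
    congr 1
    exact (QC70.res_res _ _ s).trans (QC70.res_res _ _ s).symm⟩
  obtain ⟨k, hk⟩ := hall' z'
  have hk0 : k ≠ 0 := by
    intro hk0
    obtain ⟨i, hi⟩ := hgz
    refine hi ?_
    let Φ : Γ(L, U i) ⊗[A] B ≃+ Γ(L', U' i) := AddEquiv.ofBijective _ (bcMap_bijective L B (hU₁ i) rfl)
    let ν : Γ(L', U' i) →+ K →+ Γ(L, U i) ⊗[A] K :=
      AddMonoidHom.mk' (fun x => AddMonoidHom.mk'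
          (fun c => (LinearMap.mulLeft A c).lTensor _ (g.lTensor _ (Φ.symm x))) (fun c c' => by
            rw [← LinearMap.add_apply, ← LinearMap.lTensor_add]
            congr 2
            exact LinearMap.ext fun d => add_mul c c' d)) (fun x x' => by
          ext c
          simp only [AddMonoidHom.mk'_apply, AddMonoidHom.add_apply, map_add])
    have hbal : ∀ (b : B) (x : Γ(L', U' i)) (c : K), ν (b • x) c = ν x (b • c) := by
      intro b x c
      have h3 : Φ.symm (b • x) = (LinearMap.mulLeft A b).lTensor _ (Φ.symm x) := by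
        rw [AddEquiv.symm_apply_eq]
        exact ((bcMap_mulLeft L (hU₁ i) b (Φ.symm x)).trans
          (congrArg (rA B X' (U' i) b • ·) (Φ.apply_symm_apply x))).symm
      show (LinearMap.mulLeft A c).lTensor _ (g.lTensor _ (Φ.symm (b • x))) =
        (LinearMap.mulLeft A (b • c)).lTensor _ (g.lTensor _ (Φ.symm x))
      rw [h3, ← LinearMap.lTensor_comp_apply, ← LinearMap.lTensor_comp_apply, ← LinearMap.lTensor_comp_apply]
      congr 2
      refine LinearMap.ext fun d => ?_
      show c * algebraMap B K (b * d) = b • c * algebraMap B K d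
      rw [Algebra.smul_def, map_mul, ← mul_assoc, mul_comm c]
    let θ : Γ(L', U' i) ⊗[B] K →+ Γ(L, U i) ⊗[A] K := TensorProduct.liftAddHom ν hbal
    have h4 : z'.1 i = 0 := by
      rw [hk, hk0, famMap_val, LinearMap.mulLeft_zero_eq_zero, LinearMap.lTensor_zero]
      rfl
    have h5 : ν (w i) 1 = 0 := by
      refine Eq.trans ?_ ((congrArg θ h4).trans (map_zero θ))
      rfl
    have h6 : Φ.symm (w i) = z.1 i := by
      rw [AddEquiv.symm_apply_eq]
      exact hEres z i
    rw [← h6]
    refine Eq.trans ?_ h5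
    show _ = (LinearMap.mulLeft A (1 : K)).lTensor _ (g.lTensor _ (Φ.symm (w i)))
    rw [LinearMap.mulLeft_one, LinearMap.lTensor_id, LinearMap.id_apply]
  have hgen := hgen' s k hk0 (fun i => by rw [← hk])
  let q := bc A X B ↘ Spec (CommRingCat.of B)
  let O := CohB1.genLocus L' (EGA73.unitHom L' s)
  have hfib : ∀ x : X', q x = P → x ∈ O := by
    intro x hx
    have hxr : x ∈ Set.range (bcπ B X' K) := by
      rw [Scheme.Pullback.range_fst]
      refine ⟨default, ?_⟩
      refine Eq.trans ?_ hx.symm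
      refine PrimeSpectrum.ext ?_
      show Ideal.comap (algebraMap B K) (default : Spec (CommRingCat.of K)).asIdeal = P.asIdeal
      have hb : (default : Spec (CommRingCat.of K)).asIdeal = (⊥ : Ideal K) := Ideal.eq_bot_of_prime (K := K) _
      rw [hb]
      ext b
      rw [Ideal.mem_comap, Ideal.mem_bot, Ideal.algebraMap_residueField_eq_zero]
    obtain ⟨ξ, rfl⟩ := hxr
    exact hgen ξ
  let V₀ : (Spec (CommRingCat.of B)).Opens := ⟨(q '' (O : Set X')ᶜ)ᶜ, (q.isClosedMap _ O.2.isClosed_compl).isOpen_compl⟩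
  have hV₀ : q ⁻¹ᵁ V₀ ≤ O := by
    intro x hx
    by_contra hxO
    exact hx ⟨x, hxO, rfl⟩
  refine ⟨V₀, ?_, _, (Amp73.isFrame_iff_le_genLocus _ _).2 hV₀⟩
  rintro ⟨x, hx, hxP⟩
  exact hx (hfib x hxP)

end

/-- **The seesaw ideal**: `L` is trivial relative to a Noetherian algebra `B` iff the ideal dies in `B`. -/
theorem exists_ideal (h0 : AbSch7.H0Fib (X ↘ Spec (CommRingCat.of A)))
    (hint : ∀ (K : Type u) [Field K] [Algebra A K], IsIntegral (bc A X K))
    (L : X.Modules) (hL : PicF.IsInvertible L) :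
    ∃ J : Ideal A, ∀ (B : Type u) [CommRing B] [IsNoetherianRing B] [Algebra A B],
      Tr (bc A X B ↘ Spec (CommRingCat.of B)) (bcMod (A := A) L B) ↔ J ≤ RingHom.ker (algebraMap A B) := by
  haveI : CompactSpace X := QuasiCompact.compactSpace_of_compactSpace (X ↘ Spec (CommRingCat.of A))
  haveI : IsLocallyNoetherian X := LocallyOfFiniteType.isLocallyNoetherian (X ↘ Spec (CommRingCat.of A))
  haveI : L.IsQuasicoherent := Mero90.isQCoh_of_isInvertible hL
  obtain ⟨N, hN, ⟨eN₀⟩⟩ := An92.InvMod.exists_inverse hL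
  have eN : CohB1.tensorMod L N ≅ Coh.structureModule X := EGA73.tensComm _ _ ≪≫ eN₀
  haveI : N.IsQuasicoherent := Mero90.isQCoh_of_isInvertible hN
  obtain ⟨ι, _, U, hU₁, hU⟩ := Cube7.exists_cover X
  have hU₂ : ∀ i j, IsAffineOpen (U i ⊓ U j) := fun i j =>
    Cube7.affine_inter (X ↘ Spec (CommRingCat.of A)) (hU₁ i) (hU₁ j)
  obtain ⟨Q, hQ, e, he⟩ := exists_corep_fam (A := A) L hU hU₁ hU₂ (Crv77.isCoh_of_isInvertible hL)
    (Cube7.isFlatOver_of_isInvertible _ hL)
  obtain ⟨Q', hQ', e', he'⟩ := exists_corep_fam (A := A) N hU hU₁ hU₂ (Crv77.isCoh_of_isInvertible hN)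
    (Cube7.isFlatOver_of_isInvertible _ hN)
  refine ⟨Module.annihilator A Q ⊔ Module.annihilator A Q', fun B _ _ _ => ⟨fun hT => ?_, fun hJ P => ?_⟩⟩
  · have hq : ∀ V, Function.Bijective ((bc A X B ↘ Spec (CommRingCat.of B)).app V) := fun V => by
      haveI : Flat (bc A X B ↘ Spec (CommRingCat.of B)) := inferInstanceAs (Flat (pullback.snd _ _))
      exact AbSch7.app_bijective _ (h0.of_isPullback (IsPullback.of_hasPullback _ _)) V
    have hLB := Amp73.isInvertible_pullback (bcπ A X B) hL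
    have hNB := Amp73.isInvertible_pullback (bcπ A X B) hN
    haveI := Amp73.isIso_pullTensHom (bcπ A X B) hL hN
    have hTN : Tr (bc A X B ↘ Spec (CommRingCat.of B)) (bcMod (A := A) N B) :=
      hT.inverse hq hLB hNB ((asIso (Amp73.pullTensHom (bcπ A X B) L N)).symm ≪≫
        (Scheme.Modules.pullback (bcπ A X B)).mapIso eN ≪≫ PicLoc.pullbackStructureIso (bcπ A X B))
    have key : ∀ (M : X.Modules), PicF.IsInvertible M → ∀ (R : ModuleCat.{u} A) [Module.Finite A R]
        (d : ∀ M' : ModuleCat.{u} A, (R →ₗ[A] M') ≃ Fam A M U M'),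
        (∀ (M₁ M₂ : ModuleCat.{u} A) (g : M₁ ⟶ M₂) (φ : R →ₗ[A] M₁),
          d M₂ (g.hom ∘ₗ φ) = famMap M U g.hom (d M₁ φ)) →
        Tr (bc A X B ↘ Spec (CommRingCat.of B)) (bcMod (A := A) M B) →
        ∀ a ∈ Module.annihilator A R, algebraMap A B a = 0 := by
      intro M hM R _ d hd hTM a ha
      by_contra hne
      have hI : (⊥ : Submodule B B).colon ({algebraMap A B a} : Set B) ≠ ⊤ := fun h => hne <| by
        have h1 : (1 : B) ∈ (⊥ : Submodule B B).colon ({algebraMap A B a} : Set B) := h ▸ Submodule.mem_top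
        simpa [Submodule.mem_colon_singleton] using h1
      obtain ⟨m, hm, hIm⟩ := Ideal.exists_le_maximal _ hI
      obtain ⟨V, hPV, s, hs⟩ := hTM ⟨m, hm.isPrime⟩
      obtain ⟨_, ⟨b, rfl⟩, hbm, hbV⟩ :=
        PrimeSpectrum.isTopologicalBasis_basic_opens.exists_subset_of_mem_open hPV V.isOpen
      let B' := Localization.Away b
      letI : Algebra A B' := ((algebraMap B B').comp (algebraMap A B)).toAlgebra
      have hcond : bcπ A X B' ≫ (X ↘ Spec (CommRingCat.of A)) =
          ((bc A X B' ↘ Spec (CommRingCat.of B')) ≫ Spec.map (CommRingCat.ofHom (algebraMap B B'))) ≫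
            Spec.map (CommRingCat.ofHom (algebraMap A B)) := by
        rw [pullback.condition, Category.assoc, ← Spec.map_comp]
        rfl
      let k : bc A X B' ⟶ bc A X B := pullback.lift _ _ hcond
      have hk : k ≫ bcπ A X B = bcπ A X B' := pullback.lift_fst _ _ _
      have hk' : k ≫ (bc A X B ↘ Spec (CommRingCat.of B)) =
          (bc A X B' ↘ Spec (CommRingCat.of B')) ≫ Spec.map (CommRingCat.ofHom (algebraMap B B')) :=
        pullback.lift_snd _ _ _
      have htop : (⊤ : (bc A X B').Opens) ≤ k ⁻¹ᵁ ((bc A X B ↘ Spec (CommRingCat.of B)) ⁻¹ᵁ V) := by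
        rw [← Scheme.Hom.comp_preimage, hk', Scheme.Hom.comp_preimage]
        intro x _
        refine hbV ?_
        have := (PrimeSpectrum.localization_away_comap_range B' b).le
          (Set.mem_range_self ((bc A X B' ↘ Spec (CommRingCat.of B')) x))
        exact this
      have hfr := ((Amp73.isFrame_app_iff
        ((Scheme.Modules.pullbackComp k (bcπ A X B)).app M ≪≫ (Scheme.Modules.pullbackCongr hk).app M).hom _).2
          (Props58.PullTensor.isFrame_pullS k hs)).res htop
      have hz := algebraMap_eq_zero_of_frame M hM hU hU₁ hU₂ R d hd B'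
        (by
          haveI : Flat (bc A X B' ↘ Spec (CommRingCat.of B')) := inferInstanceAs (Flat (pullback.snd _ _))
          exact AbSch7.app_bijective _ (h0.of_isPullback (IsPullback.of_hasPullback _ _)) ⊤) _ hfr ha
      obtain ⟨⟨c, n, rfl⟩, hc⟩ := (IsLocalization.map_eq_zero_iff (Submonoid.powers b) B' _).1 hz
      refine hbm (hm.isPrime.mem_of_pow_mem n (hIm ?_))
      rw [Submodule.mem_colon_singleton, Submodule.mem_bot, smul_eq_mul]
      exact hc
    intro a ha
    obtain ⟨a₁, h₁, a₂, h₂, rfl⟩ := Submodule.mem_sup.1 ha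
    rw [RingHom.mem_ker, map_add, key L hL Q e he hT a₁ h₁, key N hN Q' e' he' hTN a₂ h₂, add_zero]
  · let y := P.asIdeal.comap (algebraMap A B)
    have hy : Module.annihilator A Q ⊔ Module.annihilator A Q' ≤ y := fun a ha => by
      show algebraMap A B a ∈ P.asIdeal
      rw [show algebraMap A B a = 0 from hJ ha]
      exact zero_mem _
    obtain ⟨s, hs⟩ := exists_section_ne_zero L hL hU hU₁ hU₂ Q e he y (le_sup_left.trans hy)
    obtain ⟨t, ht⟩ := exists_section_ne_zero N hN hU hU₁ hU₂ Q' e' he' y (le_sup_right.trans hy)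
    let π := bcπ A X y.ResidueField
    haveI := Amp73.isIso_pullTensHom π hL hN
    haveI := hint y.ResidueField
    have hf : IsField Γ(bc A X y.ResidueField, ⊤) :=
      (RingEquiv.ofBijective _ (h0 y.ResidueField (Spec.map (CommRingCat.ofHom (algebraMap A y.ResidueField))))).symm.toMulEquiv.isField
        (Cube73.isField_Γ (Field.toIsField y.ResidueField))
    have htr := Cube73.iso_of_sections hf (Amp73.isInvertible_pullback π hL) (Amp73.isInvertible_pullback π hN)
      ((asIso (Amp73.pullTensHom π L N)).symm ≪≫ (Scheme.Modules.pullback π).mapIso eN ≪≫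
        PicLoc.pullbackStructureIso π) hs ht
    exact exists_frame_nhd L hL hU hU₁ hU₂ Q e he h0 B (fun a ha => hJ (Submodule.mem_sup_left ha)) P htr

end Groth.Agent.PicSee25
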